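import Groth.Agent.DetLib.AffTensor
import Groth.Agent.KoszShLib.AffHom
import Groth.Agent.CurveLib.TensorExact
import Groth.Agent.FactorOne.Basic
import Groth.Agent.CurveLib.Inv
import Groth.Agent.AmpleLib.Tensor
import Groth.Agent.QCohLib.Exact
import Groth.Prelude.Def_ExtPow2

/-!
# Exterior powers: uniqueness, and the determinant of an extension of invertible modules
-/

set_option autoImplicit false
set_option backward.isDefEq.respectTransparency false
set_option linter.style.haveILetI false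
set_option maxHeartbeats 1000000

universe u

open CategoryTheory CategoryTheory.Limits AlgebraicGeometry TopologicalSpace Opposite
open Groth.Agent.DCohLib
open scoped TensorProduct

noncomputable section

namespace Groth.Agent.DetLib

variable {X : Scheme.{u}}

/-- Exterior powers are unique up to isomorphism. -/
theorem nonempty_iso_of_isExtPow {i : ℕ} {E L L' : X.Modules} (h : ExtPow.IsExtPow i E L)
    (h' : ExtPow.IsExtPow i E L') : Nonempty (L ≅ L') := by
  suffices key : ∀ (A B : X.Modules) (a : ∀ U : X.affineOpens, Γ(A, U.1) ≃ₗ[Γ(X, U.1)] ↥(⋀[Γ(X, U.1)]^i Γ(E, U.1)))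
      (b : ∀ U : X.affineOpens, Γ(B, U.1) ≃ₗ[Γ(X, U.1)] ↥(⋀[Γ(X, U.1)]^i Γ(E, U.1))),
      (∀ (U V : X.affineOpens) (hVU : V.1 ≤ U.1) (e : Fin i → Γ(E, U.1)),
        A.presheaf.map (homOfLE hVU).op ((a U).symm (exteriorPower.ιMulti _ i e)) =
          (a V).symm (exteriorPower.ιMulti _ i fun j => E.presheaf.map (homOfLE hVU).op (e j))) →
      (∀ (U V : X.affineOpens) (hVU : V.1 ≤ U.1) (e : Fin i → Γ(E, U.1)),
        B.presheaf.map (homOfLE hVU).op ((b U).symm (exteriorPower.ιMulti _ i e)) =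
          (b V).symm (exteriorPower.ιMulti _ i fun j => E.presheaf.map (homOfLE hVU).op (e j))) →
      ∃ F : A ⟶ B, ∀ (U : X.affineOpens) (t : Γ(A, U.1)), F.app U.1 t = (b U).symm (a U t) by
    obtain ⟨a, ha⟩ := h
    obtain ⟨b, hb⟩ := h'
    obtain ⟨F, hF⟩ := key L L' a b ha hb
    obtain ⟨G, hG⟩ := key L' L b a hb ha
    refine ⟨⟨F, G, KoszShLib.hom_ext_affine _ _ fun W t => ?_, KoszShLib.hom_ext_affine _ _ fun W t => ?_⟩⟩
    · show G.app W.1 (F.app W.1 t) = t
      rw [hF, hG, LinearEquiv.apply_symm_apply, LinearEquiv.symm_apply_apply]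
    · show F.app W.1 (G.app W.1 t) = t
      rw [hG, hF, LinearEquiv.apply_symm_apply, LinearEquiv.symm_apply_apply]
  intro A B a b ha hb
  refine KoszShLib.exists_hom_of_affine (fun W => ((a W).trans (b W).symm).toLinearMap) fun V W hVW t => ?_
  obtain ⟨z, rfl⟩ := (a W).symm.surjective t
  simp only [LinearEquiv.coe_coe, LinearEquiv.trans_apply, LinearEquiv.apply_symm_apply]
  induction z using KoszShLib.extPow_induction with
  | hι e => rw [ha W V hVW e, LinearEquiv.apply_symm_apply, hb W V hVW e]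
  | h0 => simp only [map_zero]
  | hadd x y hx hy => simp only [map_add, hx, hy]
  | hsmul r x hx => simp only [map_smul, Scheme.Modules.map_smul, hx]

/-- An alternating form on sections of an invertible module over an affine open vanishes. -/
theorem alternating_eq_zero {M : X.Modules} (hM : PicF.IsInvertible M) {U : X.Opens} (hU : IsAffineOpen U)
    {P : Type u} [AddCommGroup P] [Module Γ(X, U) P] (B : Γ(M, U) [⋀^Fin 2]→ₗ[Γ(X, U)] P) (v : Fin 2 → Γ(M, U)) :
    B v = 0 := by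
  haveI := (PullbackMod.isQCoh_and_isFP_of_isFinLocFree M
    (CurveLib.isFinLocFree_of_isInvertible hM)).1
  suffices (1 : Γ(X, U)) ∈ LinearMap.ker (LinearMap.toSpanSingleton Γ(X, U) _ (B v)) by simpa using this
  by_contra h1
  obtain ⟨P', hP, hIP⟩ := Ideal.exists_le_maximal (LinearMap.ker (LinearMap.toSpanSingleton Γ(X, U) _ (B v)))
    fun h => h1 (h ▸ trivial)
  let q : PrimeSpectrum Γ(X, U) := ⟨P', hP.isPrime⟩
  have hy : hU.fromSpec q ∈ U := by
    have h : hU.fromSpec q ∈ hU.fromSpec.opensRange := ⟨q, rfl⟩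
    rwa [hU.opensRange_fromSpec] at h
  let y := hU.fromSpec q
  have hpq : hU.primeIdealOf ⟨y, hy⟩ = q :=
    hU.fromSpec.isOpenEmbedding.injective (hU.fromSpec_primeIdealOf ⟨_, hy⟩)
  let S := (hU.primeIdealOf ⟨y, hy⟩).asIdeal.primeCompl
  letI := Module.compHom (M.presheaf.stalk y) (X.presheaf.germ U y hy).hom
  letI : Algebra Γ(X, U) (X.presheaf.stalk y) := TopCat.Presheaf.algebra_section_stalk X.presheaf (⟨y, hy⟩ : U)
  haveI : IsLocalization S (X.presheaf.stalk y) := hU.isLocalization_stalk ⟨y, hy⟩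
  let g := FlatLocus.germL M U y hy
  haveI : IsLocalizedModule S g := FlatLocus.isLocalizedModule_germL M hU y hy
  obtain ⟨eq⟩ := CurveLib.freeAt_one_of_isInvertible hM y
  let eq' := eq.trans (LinearEquiv.funUnique (Fin 1) (X.presheaf.stalk y) (X.presheaf.stalk y))
  obtain ⟨⟨m₀, s₀⟩, hs₀⟩ := IsLocalizedModule.surj S g (eq'.symm 1)
  have hu : IsUnit (algebraMap Γ(X, U) (X.presheaf.stalk y) s₀.1) := IsLocalization.map_units _ s₀
  have hgen : ∀ a : M.presheaf.stalk y, ∃ c : X.presheaf.stalk y, c • g m₀ = a := fun a => by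
    obtain ⟨u, hu'⟩ := hu
    refine ⟨eq' a * (↑u⁻¹ : X.presheaf.stalk y), ?_⟩
    rw [← hs₀]
    show (eq' a * (↑u⁻¹ : X.presheaf.stalk y)) • (algebraMap Γ(X, U) (X.presheaf.stalk y) s₀.1) • eq'.symm 1 = a
    rw [smul_smul, ← hu', Units.inv_mul_cancel_right, ← map_smul, smul_eq_mul, mul_one,
      LinearEquiv.symm_apply_apply]
  have hmul : ∀ a : Γ(M, U), ∃ s ∈ S, ∃ r : Γ(X, U), s • a = r • m₀ := fun a => by
    obtain ⟨c, hc⟩ := hgen (g a)
    obtain ⟨⟨r, s⟩, hrs⟩ := IsLocalization.surj S c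
    have h2 : g (s.1 • a) = g (r • m₀) := by
      rw [map_smul, map_smul, ← hc]
      show algebraMap Γ(X, U) (X.presheaf.stalk y) s.1 • c • g m₀ = algebraMap Γ(X, U) (X.presheaf.stalk y) r • g m₀
      rw [smul_smul, mul_comm, hrs]
    obtain ⟨t, ht⟩ := (IsLocalizedModule.eq_iff_exists S g).1 h2
    exact ⟨t.1 * s.1, S.mul_mem t.2 s.2, t.1 * r, by rw [mul_smul, mul_smul]; exact ht⟩
  choose s hs r hr using hmul
  have hz : (∏ j, s (v j)) • B v = 0 := by
    show (∏ j, s (v j)) • B.toMultilinearMap v = 0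
    rw [← B.toMultilinearMap.map_smul_univ (fun j => s (v j)) v]
    rw [show (fun j => s (v j) • v j) = fun j => r (v j) • m₀ from funext fun j => hr (v j)]
    rw [B.toMultilinearMap.map_smul_univ (fun j => r (v j)) (fun _ => m₀)]
    rw [AlternatingMap.coe_multilinearMap, B.map_eq_zero_of_eq (fun _ => m₀) (i := 0) (j := 1) rfl (by decide)]
    exact smul_zero _
  have hmem : (∏ j, s (v j)) ∈ P' := hIP hz
  have hS : (∏ j, s (v j)) ∈ S := Submonoid.prod_mem _ fun j _ => hs (v j)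
  exact hS (by rw [hpq]; exact hmem)

/-- Sections of the square of an invertible module are symmetric. -/
theorem pairS_comm {M : X.Modules} (hM : PicF.IsInvertible M) {U : X.Opens} (a b : Γ(M, U)) :
    pairS M M a b = pairS M M b a := by
  refine TopCat.Presheaf.section_ext (⟨(tmod M M).presheaf, (tmod M M).isSheaf⟩ : TopCat.Sheaf Ab X) U _ _ fun y hy => ?_
  obtain ⟨eq⟩ := CurveLib.freeAt_one_of_isInvertible hM y
  let eq' := eq.trans (LinearEquiv.funUnique (Fin 1) (X.presheaf.stalk y) (X.presheaf.stalk y))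
  show (tmod M M).presheaf.germ U y hy _ = (tmod M M).presheaf.germ U y hy _
  rw [AmpleLib.germ_pairS, AmpleLib.germ_pairS, ← eq'.symm_apply_apply (M.presheaf.germ U y hy a),
    ← eq'.symm_apply_apply (M.presheaf.germ U y hy b), ← mul_one (eq' (M.presheaf.germ U y hy a)),
    ← mul_one (eq' (M.presheaf.germ U y hy b)), ← smul_eq_mul, ← smul_eq_mul, map_smul, map_smul,
    TensorProduct.smul_tmul_smul, TensorProduct.smul_tmul_smul, mul_comm]

section Ses

variable (T : ShortComplex X.Modules)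

/-- `e₀ ⊗ g e₁ - e₁ ⊗ g e₀`. -/
def wOf (U : X.Opens) (e : Fin 2 → Γ(T.X₂, U)) : Γ(tmod T.X₂ T.X₃, U) :=
  pairS T.X₂ T.X₃ (e 0) (T.g.app U (e 1)) - pairS T.X₂ T.X₃ (e 1) (T.g.app U (e 0))

/-- The same as an alternating map. -/
def wAlt (U : X.Opens) : Γ(T.X₂, U) [⋀^Fin 2]→ₗ[Γ(X, U)] Γ(tmod T.X₂ T.X₃, U) :=
  let l : Γ(T.X₂, U) →ₗ[Γ(X, U)] Γ(T.X₃, U) := KoszShLib.appLin T.g U
  let bb : Γ(T.X₂, U) →ₗ[Γ(X, U)] Γ(T.X₂, U) →ₗ[Γ(X, U)] Γ(tmod T.X₂ T.X₃, U) :=
    LinearMap.mk₂ Γ(X, U) (fun a b => betaA T.X₂ T.X₃ U (a ⊗ₜ l b) - betaA T.X₂ T.X₃ U (b ⊗ₜ l a))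
      (fun a a' b => by simp only [TensorProduct.add_tmul, map_add, TensorProduct.tmul_add]; abel)
      (fun r a b => by
        simp only [← TensorProduct.smul_tmul', map_smul, TensorProduct.tmul_smul, smul_sub])
      (fun a b b' => by simp only [TensorProduct.add_tmul, map_add, TensorProduct.tmul_add]; abel)
      (fun r a b => by
        simp only [← TensorProduct.smul_tmul', map_smul, TensorProduct.tmul_smul, smul_sub])
  { toFun := fun e => bb (e 0) (e 1)
    map_update_add' := fun m i x y => by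
      fin_cases i <;> simp [Function.update]
    map_update_smul' := fun m i c x => by
      fin_cases i <;> simp [Function.update]
    map_eq_zero_of_eq' := fun v i j hv hij => by
      have h01 : v 0 = v 1 := by
        fin_cases i <;> fin_cases j <;> simp_all
      show betaA _ _ U (v 0 ⊗ₜ l (v 1)) - betaA _ _ U (v 1 ⊗ₜ l (v 0)) = 0
      rw [h01, sub_self] }

theorem wAlt_apply (U : X.Opens) (e : Fin 2 → Γ(T.X₂, U)) : wAlt T U e = wOf T U e := by
  show betaA _ _ U _ - betaA _ _ U _ = _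
  rw [betaA_tmul, betaA_tmul]
  rfl

/-- `f ⊗ 1` on sections. -/
def fT (U : X.Opens) : Γ(tmod T.X₁ T.X₃, U) →ₗ[Γ(X, U)] Γ(tmod T.X₂ T.X₃, U) :=
  KoszShLib.appLin ((CurveLib.tensR T.X₃).map T.f) U

theorem fT_pairS (U : X.Opens) (a : Γ(T.X₁, U)) (b : Γ(T.X₃, U)) :
    fT T U (pairS T.X₁ T.X₃ a b) = pairS T.X₂ T.X₃ (T.f.app U a) b :=
  tensorBi_app_pairS_left T.f a b

variable {T} (hT : T.ShortExact) (h₁ : PicF.IsInvertible T.X₁) (h₃ : PicF.IsInvertible T.X₃)

include hT h₃ in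
theorem shortExact_tens : (T.map (CurveLib.tensR T.X₃)).ShortExact :=
  CurveLib.shortExact_tensR hT (CurveLib.freeAt_one_of_isInvertible h₃)

include hT h₃ in
theorem fT_injective (U : X.Opens) : Function.Injective (fT T U) :=
  QCohLib.app_injective (shortExact_tens hT h₃) U

include hT h₃ in
theorem wAlt_mem (U : X.Opens) (e : Fin 2 → Γ(T.X₂, U)) : wAlt T U e ∈ LinearMap.range (fT T U) := by
  rw [wAlt_apply]
  refine QCohLib.app_exact (shortExact_tens hT h₃) U _ ?_
  show ((CurveLib.tensR T.X₃).map T.g).app U (pairS T.X₂ T.X₃ (e 0) (T.g.app U (e 1)) -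
    pairS T.X₂ T.X₃ (e 1) (T.g.app U (e 0))) = 0
  rw [map_sub]
  refine sub_eq_zero.2 ?_
  exact (tensorBi_app_pairS_left T.g (e 0) _).trans ((pairS_comm h₃ _ _).trans
    (tensorBi_app_pairS_left T.g (e 1) _).symm)

/-- The comparison on sections. -/
def psiU (U : X.Opens) : ↥(⋀[Γ(X, U)]^2 Γ(T.X₂, U)) →ₗ[Γ(X, U)] Γ(tmod T.X₁ T.X₃, U) :=
  exteriorPower.alternatingMapLinearEquiv
    ((LinearEquiv.ofInjective (fT T U) (fT_injective hT h₃ U)).symm.toLinearMap.compAlternatingMap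
      ((wAlt T U).codRestrict _ (wAlt_mem hT h₃ U)))

theorem fT_psiU (U : X.Opens) (e : Fin 2 → Γ(T.X₂, U)) :
    fT T U (psiU hT h₃ U (exteriorPower.ιMulti _ 2 e)) = wAlt T U e := by
  rw [psiU, exteriorPower.alternatingMapLinearEquiv_apply_ιMulti]
  exact congrArg Subtype.val
    ((LinearEquiv.ofInjective (fT T U) (fT_injective hT h₃ U)).apply_symm_apply ⟨_, wAlt_mem hT h₃ U e⟩)

theorem psiU_res {U V : X.Opens} (h : V ≤ U) (e : Fin 2 → Γ(T.X₂, U)) :
    (tmod T.X₁ T.X₃).presheaf.map (homOfLE h).op (psiU hT h₃ U (exteriorPower.ιMulti _ 2 e)) =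
      psiU hT h₃ V (exteriorPower.ιMulti _ 2 fun j => T.X₂.presheaf.map (homOfLE h).op (e j)) := by
  apply fT_injective hT h₃ V
  rw [fT_psiU, wAlt_apply]
  refine (KoszShLib.app_res ((CurveLib.tensR T.X₃).map T.f) h _).trans ?_
  change (tmod T.X₂ T.X₃).presheaf.map (homOfLE h).op (fT T U _) = _
  rw [fT_psiU, wAlt_apply, wOf, wOf, map_sub, res_pairS, res_pairS, KoszShLib.app_res, KoszShLib.app_res]

include h₁ in
theorem psiU_bijective {U : X.Opens} (hU : IsAffineOpen U) : Function.Bijective (psiU hT h₃ U) := by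
  haveI := hT.mono_f
  haveI h1q := (PullbackMod.isQCoh_and_isFP_of_isFinLocFree T.X₁
    (CurveLib.isFinLocFree_of_isInvertible h₁)).1
  have h3f : FlatMod.IsFinLocFree T.X₃ := CurveLib.isFinLocFree_of_isInvertible h₃
  haveI h3q := (PullbackMod.isQCoh_and_isFP_of_isFinLocFree T.X₃ h3f).1
  haveI := FactorOne.projective_sections T.X₃ h3f hU
  let R := Γ(X, U)
  let f : Γ(T.X₁, U) →ₗ[R] Γ(T.X₂, U) := KoszShLib.appLin T.f U
  let g : Γ(T.X₂, U) →ₗ[R] Γ(T.X₃, U) := KoszShLib.appLin T.g U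
  obtain ⟨s, hs⟩ := Module.projective_lifting_property g LinearMap.id (QCohLib.app_surjective hT h1q hU)
  have hs' : ∀ m, g (s m) = m := fun m => LinearMap.congr_fun hs m
  let ι₂ := exteriorPower.ιMulti R 2 (M := Γ(T.X₂, U))
  have upd : ∀ x w y : Γ(T.X₂, U), Function.update ![x, w] (1 : Fin 2) y = ![x, y] := fun x w y => by
    funext j; fin_cases j <;> rfl
  let χ : Γ(T.X₁, U) ⊗[R] Γ(T.X₃, U) →ₗ[R] ↥(⋀[R]^2 Γ(T.X₂, U)) :=
    TensorProduct.lift (LinearMap.mk₂ R (fun a b => ι₂ ![f a, s b])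
      (fun a a' b => by rw [map_add]; exact ι₂.map_vecCons_add _ _ _)
      (fun r a b => by rw [map_smul]; exact ι₂.map_vecCons_smul _ _ _)
      (fun a b b' => by
        rw [map_add]
        have h := ι₂.map_update_add ![f a, 0] 1 (s b) (s b')
        rwa [upd, upd, upd] at h)
      (fun r a b => by
        rw [map_smul]
        have h := ι₂.map_update_smul ![f a, 0] 1 r (s b)
        rwa [upd, upd] at h))
  have hcomp : ∀ z, psiU hT h₃ U (χ z) = betaA T.X₁ T.X₃ U z := fun z => by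
    induction z using TensorProduct.induction_on with
    | zero => simp only [map_zero]
    | add a b ha hb => simp only [map_add, ha, hb]
    | tmul a b =>
      apply fT_injective hT h₃ U
      rw [betaA_tmul, fT_pairS]
      show fT T U (psiU hT h₃ U (ι₂ ![f a, s b])) = _
      rw [fT_psiU, wAlt_apply, wOf]
      show pairS T.X₂ T.X₃ (f a) (g (s b)) - pairS T.X₂ T.X₃ (s b) (g (f a)) = _
      rw [hs', show g (f a) = 0 from QCohLib.app_g_f U a]
      have h0 : pairS T.X₂ T.X₃ (s b) (0 : Γ(T.X₃, U)) = 0 := by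
        rw [← betaA_tmul, TensorProduct.tmul_zero, map_zero]
      rw [h0, sub_zero]
      rfl
  have hχ : Function.Surjective χ := by
    have hdec : ∀ e : Γ(T.X₂, U), ∃ a, f a + s (g e) = e := fun e => by
      obtain ⟨a, ha⟩ := QCohLib.app_exact hT U (e - s (g e)) (by
        show g (e - s (g e)) = 0
        rw [map_sub, hs', sub_self])
      exact ⟨a, by show T.f.app U a + _ = e; rw [ha, sub_add_cancel]⟩
    intro z
    induction z using KoszShLib.extPow_induction with
    | h0 => exact ⟨0, map_zero _⟩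
    | hadd x y hx hy =>
      obtain ⟨a, rfl⟩ := hx
      obtain ⟨b, rfl⟩ := hy
      exact ⟨a + b, map_add _ _ _⟩
    | hsmul r x hx =>
      obtain ⟨a, rfl⟩ := hx
      exact ⟨r • a, map_smul _ _ _⟩
    | hι e =>
      obtain ⟨a₀, h₀⟩ := hdec (e 0)
      obtain ⟨a₁, h₁'⟩ := hdec (e 1)
      refine ⟨a₀ ⊗ₜ g (e 1) - a₁ ⊗ₜ g (e 0), ?_⟩
      have z1 := alternating_eq_zero h₁ hU (ι₂.compLinearMap f) ![a₀, a₁]
      have z3 := alternating_eq_zero h₃ hU (ι₂.compLinearMap s) ![g (e 0), g (e 1)]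
      simp only [AlternatingMap.compLinearMap_apply] at z1 z3
      have e01 : e = ![f a₀ + s (g (e 0)), f a₁ + s (g (e 1))] := by
        funext j; fin_cases j <;> simp [h₀, h₁']
      have swap := ι₂.map_swap ![f a₁, s (g (e 0))] (i := 0) (j := 1) (by decide)
      rw [show (![f a₁, s (g (e 0))] ∘ ⇑(Equiv.swap (0 : Fin 2) 1)) = ![s (g (e 0)), f a₁] from by
        funext j; fin_cases j <;> simp] at swap
      conv_rhs => rw [e01]
      show χ _ = ι₂ ![f a₀ + s (g (e 0)), f a₁ + s (g (e 1))]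
      rw [map_sub, TensorProduct.lift.tmul, TensorProduct.lift.tmul, LinearMap.mk₂_apply, LinearMap.mk₂_apply]
      rw [show ι₂ ![f a₀ + s (g (e 0)), f a₁ + s (g (e 1))] =
          ι₂ ![f a₀, f a₁ + s (g (e 1))] + ι₂ ![s (g (e 0)), f a₁ + s (g (e 1))] from ι₂.map_vecCons_add _ _ _]
      have u1 : ∀ x y y' : Γ(T.X₂, U), ι₂ ![x, y + y'] = ι₂ ![x, y] + ι₂ ![x, y'] := fun x y y' => by
        have h := ι₂.map_update_add ![x, 0] 1 y y'
        rwa [upd, upd, upd] at h
      rw [u1, u1, swap]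
      have z1' : ι₂ ![f a₀, f a₁] = 0 := by
        refine Eq.trans (congrArg ι₂ ?_) z1
        funext j; fin_cases j <;> simp
      have z3' : ι₂ ![s (g (e 0)), s (g (e 1))] = 0 := by
        refine Eq.trans (congrArg ι₂ ?_) z3
        funext j; fin_cases j <;> simp
      rw [z1', z3']
      abel
  have hb := bijective_betaA T.X₁ T.X₃ hU
  refine ⟨(injective_iff_map_eq_zero _).2 fun z hz => ?_, fun t => ?_⟩
  · obtain ⟨w, rfl⟩ := hχ z
    rw [hcomp] at hz
    rw [hb.1 (hz.trans (map_zero _).symm), map_zero]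
  · obtain ⟨w, hw⟩ := hb.2 t
    exact ⟨χ w, (hcomp w).trans hw⟩

include hT h₁ h₃ in
/-- The determinant of an extension of invertible modules. -/
theorem isExtPow_two_of_shortExact : ExtPow.IsExtPow 2 T.X₂ (tmod T.X₁ T.X₃) :=
  ⟨fun U => (LinearEquiv.ofBijective (psiU hT h₃ U.1) (psiU_bijective hT h₁ h₃ U.2)).symm,
    fun U V h e => psiU_res hT h₃ h e⟩

end Ses

end Groth.Agent.DetLib
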