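import Groth.Agent.DCohLib.StalkTensor
import Groth.Agent.FlatLocus.ModInjFlat
import Groth.Agent.BCLib.TensorQCoh
import Mathlib.RingTheory.Localization.BaseChange

/-!
# Sections of a tensor product of quasi-coherent modules over an affine open
-/

set_option autoImplicit false
set_option backward.isDefEq.respectTransparency false
set_option linter.style.haveILetI false

universe u

open CategoryTheory CategoryTheory.Limits AlgebraicGeometry TopologicalSpace
open Groth.Agent.DCohLib
open scoped TensorProduct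

noncomputable section

namespace Groth.Agent.DetLib

variable {X : Scheme.{u}}

/-- The pairing of sections over an open. -/
def betaA (A B : X.Modules) (U : X.Opens) :
    Γ(A, U) ⊗[Γ(X, U)] Γ(B, U) →ₗ[Γ(X, U)] Γ(tmod A B, U) :=
  TensorProduct.lift (LinearMap.mk₂ Γ(X, U) (fun a b => pairS A B a b)
    (fun _ _ _ => pairS_add_left _ _ _) (fun r _ _ => pairS_smul_left r _ _)
    (fun _ _ _ => pairS_add_right _ _ _) (fun r _ _ => pairS_smul_right r _ _))

theorem betaA_tmul (A B : X.Modules) (U : X.Opens) (a : Γ(A, U)) (b : Γ(B, U)) :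
    betaA A B U (a ⊗ₜ b) = pairS A B a b := TensorProduct.lift.tmul _ _

/-- Local injectivity and surjectivity of the pairing at a point. -/
theorem betaA_near (A B : X.Modules) [Coh.IsQCoh A] [Coh.IsQCoh B] {U : X.Opens} (hU : IsAffineOpen U)
    (y : X) (hy : y ∈ U) :
    (∀ z, betaA A B U z = 0 → ∃ s ∉ (hU.primeIdealOf ⟨y, hy⟩).asIdeal, s • z = 0) ∧
      ∀ t : Γ(tmod A B, U), ∃ s ∉ (hU.primeIdealOf ⟨y, hy⟩).asIdeal, ∃ z, betaA A B U z = s • t := by
  haveI : Coh.IsQCoh (tmod A B) := BCLib.isQCoh_tmod A B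
  let R := Γ(X, U)
  let S := (hU.primeIdealOf ⟨y, hy⟩).asIdeal.primeCompl
  letI := Module.compHom (A.presheaf.stalk y) (X.presheaf.germ U y hy).hom
  letI := Module.compHom (B.presheaf.stalk y) (X.presheaf.germ U y hy).hom
  letI := Module.compHom ((tmod A B).presheaf.stalk y) (X.presheaf.germ U y hy).hom
  letI : Algebra R (X.presheaf.stalk y) := TopCat.Presheaf.algebra_section_stalk X.presheaf (⟨y, hy⟩ : U)
  haveI : IsLocalization S (X.presheaf.stalk y) := hU.isLocalization_stalk ⟨y, hy⟩
  haveI : IsScalarTower R (X.presheaf.stalk y) (A.presheaf.stalk y) :=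
    IsScalarTower.of_algebraMap_smul fun _ _ => rfl
  haveI : IsScalarTower R (X.presheaf.stalk y) (B.presheaf.stalk y) :=
    IsScalarTower.of_algebraMap_smul fun _ _ => rfl
  let gA := FlatLocus.germL A U y hy
  let gB := FlatLocus.germL B U y hy
  let gT := FlatLocus.germL (tmod A B) U y hy
  haveI : IsLocalizedModule S gA := FlatLocus.isLocalizedModule_germL A hU y hy
  haveI : IsLocalizedModule S gB := FlatLocus.isLocalizedModule_germL B hU y hy
  haveI : IsLocalizedModule S gT := FlatLocus.isLocalizedModule_germL (tmod A B) hU y hy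
  let φ := TensorProduct.map gA gB
  let e := IsLocalization.moduleTensorEquiv (R := R) S (X.presheaf.stalk y) (A.presheaf.stalk y) (B.presheaf.stalk y)
  have key : ∀ z, gT (betaA A B U z) = stalkTensor y A B (e.symm (φ z)) := fun z => by
    induction z using TensorProduct.induction_on with
    | zero => simp only [map_zero]
    | tmul a b =>
      rw [betaA_tmul]
      refine (stalkTensorHom_tmul y hy a b).symm.trans ?_
      rfl
    | add a b ha hb => simp only [map_add, ha, hb]
  refine ⟨fun z hz => ?_, fun t => ?_⟩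
  · have h0 : φ z = 0 := by
      have := key z
      rw [hz, map_zero] at this
      exact e.symm.map_eq_zero_iff.1 ((stalkTensor y A B).map_eq_zero_iff.1 this.symm)
    obtain ⟨s, hs⟩ := (IsLocalizedModule.eq_zero_iff S φ).1 h0
    exact ⟨s.1, s.2, hs⟩
  · obtain ⟨⟨z, s⟩, hzs⟩ := IsLocalizedModule.surj S φ (e ((stalkTensor y A B).symm (gT t)))
    have h1 : gT (betaA A B U z) = gT (s.1 • t) := by
      rw [key, ← hzs]
      show stalkTensor y A B (e.symm (s.1 • e ((stalkTensor y A B).symm (gT t)))) = gT (s.1 • t)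
      rw [← algebraMap_smul (X.presheaf.stalk y) s.1 (e ((stalkTensor y A B).symm (gT t))), map_smul,
        LinearEquiv.symm_apply_apply, map_smul, LinearEquiv.apply_symm_apply, map_smul]
      rfl
    obtain ⟨c, hc⟩ := (IsLocalizedModule.eq_iff_exists S gT).1 h1
    refine ⟨c.1 * s.1, (hU.primeIdealOf ⟨y, hy⟩).asIdeal.primeCompl.mul_mem c.2 s.2, c.1 • z, ?_⟩
    rw [map_smul, mul_smul]
    exact hc

/-- The pairing is bijective over affine opens. -/
theorem bijective_betaA (A B : X.Modules) [Coh.IsQCoh A] [Coh.IsQCoh B] {U : X.Opens} (hU : IsAffineOpen U) :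
    Function.Bijective (betaA A B U) := by
  have hpt : ∀ P : Ideal Γ(X, U), P.IsMaximal → ∃ y : X, ∃ hy : y ∈ U, (hU.primeIdealOf ⟨y, hy⟩).asIdeal = P :=
    fun P hP => by
      let q : PrimeSpectrum Γ(X, U) := ⟨P, hP.isPrime⟩
      have hq : hU.fromSpec q ∈ U := by
        have h : hU.fromSpec q ∈ hU.fromSpec.opensRange := ⟨q, rfl⟩
        rwa [hU.opensRange_fromSpec] at h
      exact ⟨_, hq, congrArg PrimeSpectrum.asIdeal (hU.fromSpec.isOpenEmbedding.injective (hU.fromSpec_primeIdealOf ⟨_, hq⟩))⟩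
  refine ⟨(injective_iff_map_eq_zero _).2 fun z hz => ?_, fun t => ?_⟩
  · let I : Ideal Γ(X, U) := LinearMap.ker (LinearMap.toSpanSingleton Γ(X, U) _ z)
    suffices (1 : Γ(X, U)) ∈ I by simpa [I] using this
    by_contra h1
    obtain ⟨P, hP, hIP⟩ := Ideal.exists_le_maximal I fun h => h1 (h ▸ trivial)
    obtain ⟨y, hy, rfl⟩ := hpt P hP
    obtain ⟨s, hs, hs0⟩ := (betaA_near A B hU y hy).1 z hz
    exact hs (hIP (show s • z = 0 from hs0))
  · let I : Ideal Γ(X, U) := Submodule.comap (LinearMap.toSpanSingleton Γ(X, U) _ t) (LinearMap.range (betaA A B U))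
    suffices (1 : Γ(X, U)) ∈ I by simpa [I] using this
    by_contra h1
    obtain ⟨P, hP, hIP⟩ := Ideal.exists_le_maximal I fun h => h1 (h ▸ trivial)
    obtain ⟨y, hy, rfl⟩ := hpt P hP
    obtain ⟨s, hs, z, hz⟩ := (betaA_near A B hU y hy).2 t
    exact hs (hIP (show s • t ∈ LinearMap.range (betaA A B U) from ⟨z, hz⟩))

end Groth.Agent.DetLib
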